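import Groth.Agent.Lib.CurveCanonical
import Groth.Agent.CurveEmbed.Conic
import Groth.Agent.Synt29.ConormalExact

/-!
Rational points of a smooth curve of genus one and modules of degree `-1`.
-/

noncomputable section

set_option linter.style.haveILetI false
set_option linter.unusedSectionVars false
set_option backward.isDefEq.respectTransparency false
set_option backward.isDefEq.respectTransparency.types false

universe u

open CategoryTheory CategoryTheory.Limits AlgebraicGeometry TopologicalSpace Opposite
open Groth.Agent.PnCoh.Finite (mapLin)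

attribute [local instance] Curv2.resAlgebra

namespace Groth.Agent.CurveNondeg

open Groth.Agent Groth.Agent.CurveStable Groth.Agent.CurvePoint Groth.Agent.CurveDuality

variable {X : Scheme.{u}} (k : Type u) [Field k] [X.Over (Spec (CommRingCat.of k))] [IsIntegral X]
  [IsProper (X ↘ Spec (CommRingCat.of k))]

include k in
/-- A map into the structure sheaf which is not onto at a point lands in the ideal of the point. -/
theorem comp_toSubscheme_eq_zero {N : X.Modules} (φ : N ⟶ Coh.structureModule X) {p : X}
    (hp : IsClosed ({p} : Set X))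
    (hn : ¬ Function.Surjective ((DerSch.stalkFunctor X p).map φ)) :
    φ ≫ ClSub.toSubscheme (ptIdeal p hp) = 0 := by
  refine Synt29.ConormalExact.hom_ext_stalk _ _ fun x m => ?_
  by_cases hx : x = p
  · subst hx
    let F := DerSch.stalkFunctor X x
    let one : F.obj (Coh.structureModule X) :=
      (Coh.structureModule X).presheaf.germ ⊤ x trivial (show Γ(Coh.structureModule X, ⊤) from (1 : Γ(X, ⊤)))
    have hgen : ∀ y : F.obj (Coh.structureModule X), ∃ a : X.presheaf.stalk x, a • one = y := fun y => by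
      obtain ⟨W, hxW, s, rfl⟩ := TopCat.Presheaf.exists_germ_eq (Coh.structureModule X).presheaf y
      refine ⟨X.presheaf.germ W x hxW s, ?_⟩
      refine Eq.trans (congrArg (X.presheaf.germ W x hxW s • ·)
        (InvX.germ_res' (M := Coh.structureModule X) (le_top : W ≤ ⊤) hxW _).symm) ?_
      refine (QCoh.germ_smul' (Coh.structureModule X) hxW s _).symm.trans ?_
      refine congrArg ((Coh.structureModule X).presheaf.germ W x hxW) ?_
      show (show Γ(X, W) from s) * X.presheaf.map (homOfLE (le_top : W ≤ ⊤)).op (1 : Γ(X, ⊤)) = (show Γ(X, W) from s)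
      rw [map_one, mul_one]
    obtain ⟨a, ha⟩ := hgen (F.map φ m)
    have hmem : a ∈ IsLocalRing.maximalIdeal (X.presheaf.stalk x) := by
      rw [IsLocalRing.mem_maximalIdeal]
      rintro ⟨u, rfl⟩
      refine hn fun y => ?_
      obtain ⟨b, rfl⟩ := hgen y
      refine ⟨(b * (↑u⁻¹ : X.presheaf.stalk x)) • m, ?_⟩
      refine (map_smul (F.map φ).hom _ m).trans ?_
      refine (congrArg (_ • ·) ha.symm).trans ?_
      rw [← mul_smul, mul_assoc, Units.inv_mul, mul_one]
    show (F.map (φ ≫ ClSub.toSubscheme (ptIdeal x hp))) m = (F.map 0) m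
    rw [F.map_comp, F.map_zero]
    refine (congrArg (F.map (ClSub.toSubscheme (ptIdeal x hp))) ha.symm).trans ?_
    exact (map_smul (F.map (ClSub.toSubscheme (ptIdeal x hp))).hom a one).trans
      (smul_quot_eq_zero x hp hmem _)
  · haveI := subsingleton_stalk_of_ne p hp hx
    exact Subsingleton.elim (α := (ClSub.quotMod (ptIdeal p hp)).presheaf.stalk x) _ _

variable [Smooth (X ↘ Spec (CommRingCat.of k))]

include k in
theorem isInvertible_pt (hdim : topologicalKrullDim X = 1) {p : X} (hp : IsClosed ({p} : Set X)) :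
    PicF.IsInvertible (ptMod p hp) :=
  CurveEmbed.isInvertible_point k hdim hp (CurveEmbed.isIntegrallyClosed_of_smooth k hdim hp (by
    rw [(X ↘ Spec (CommRingCat.of k)).smoothLocus_eq_top_iff.2 inferInstance]; trivial))

variable (hO : Module.finrank k (Coh.HH X (Coh.structureModule X) 0) = 1)
include hO

/-- In genus one a module of positive degree has as many sections as its degree. -/
theorem h0_eq_deg (hdim : topologicalKrullDim X = 1) (hg : Curv2.genus k X = 1) {M : X.Modules}
    (hM : PicF.IsInvertible M) (hd : 0 < Curv2.deg k X M 1) :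
    (Module.finrank k (Coh.HH X M 0) : ℤ) = Curv2.deg k X M 1 := by
  haveI := CurveCohLib.isNoetherian_of_proper (k := k) (X := X)
  obtain ⟨ω, μ, hω⟩ := exists_isDualizing k (X := X) hdim
  obtain ⟨D, hD, hdD, ⟨e⟩⟩ := exists_inverse_deg k hdim hM
  obtain ⟨-, -, hdω⟩ := canonical_invariants k hO hω hdim
  have hd' := CurveRR.deg_tensor k hdim hD hω.inv
  have h0 := finrank_h0_of_deg_neg k hdim (InvX.isInvertible_tensorMod hD hω.inv)
    (show Curv2.deg k X ((DCoh.tensorBi.obj D).obj ω) 1 < 0 by
      refine lt_of_eq_of_lt hd' ?_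
      rw [hdD, hdω, hg]; omega)
  have h1 := finrank_h1_eq k hω hdim hM e
  replace h1 := h1.trans h0
  have hχ := euler_eq k hdim (coh_of_free k (isFinLocFree_of_rank (InvEnd.isFinLocFreeOfRank_one hM)))
  have hχO := euler_structure k hO hdim
  rw [hg] at hχO
  unfold Curv2.deg at hd ⊢
  push_cast at hd ⊢
  omega

/-- A module of degree `-1` whose inverse has a section is the ideal of a rational point. -/
theorem exists_point (hdim : topologicalKrullDim X = 1) {N M : X.Modules} (hN : PicF.IsInvertible N)
    (hMi : PicF.IsInvertible M)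
    (e : (DCoh.tensorBi.obj N).obj M ≅ Coh.structureModule X)
    (hdeg : Curv2.deg k X N 1 = -1) (hM : 0 < Module.finrank k (Coh.HH X M 0)) :
    ∃ (p : X) (hp : IsClosed ({p} : Set X)),
      Function.Bijective (Curv2.resMap k X p) ∧ Nonempty (ptMod p hp ≅ N) := by
  haveI := CurveCohLib.isNoetherian_of_proper (k := k) (X := X)
  have hO' := CurveDeg.isInvertible_structureModule (X := X)
  have hfr : 0 < Module.finrank k (Coh.HH X ((DCoh.tensorBi.obj M).obj (Coh.structureModule X)) 0) := by
    rwa [(CurveCohLib.hhEquiv (k := k) (KFlatLib.tensorUnitIso M) 0).finrank_eq]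
  haveI := CurveCohLib.finite_HH (k := k) (CurveTensor.isCoh_tensor (isFinLocFree_of_rank (InvEnd.isFinLocFreeOfRank_one (show PicF.IsInvertible M from hMi))) QCoh.isCoh_structureModule') 0
  obtain ⟨t, ht⟩ := Module.finrank_pos_iff_exists_ne_zero.1 hfr
  let φ : N ⟶ Coh.structureModule X := homOfTwist e _ t
  have hφ : φ ≠ 0 := homOfTwist_ne_zero e ht
  haveI : Mono φ := InvEnd.mono_of_ne_zero hN hO' φ hφ
  have hQ : Coh.IsCoh (cokernel φ) :=
    QCoh.isCoh_cokernel (CurveDeg.isCoh_of_isInvertible hN).1 QCoh.isCoh_structureModule' φ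
  obtain ⟨p, hpS, hp⟩ : ∃ p ∈ CohB1.support (cokernel φ), IsClosed ({p} : Set X) := by
    refine IsClosed.exists_closed_singleton (QCoh.isClosed_support_of_isFT hQ.1 hQ.2)
      (Set.nonempty_iff_ne_empty.2 fun h => ?_)
    haveI : Epi φ := Preadditive.epi_of_isZero_cokernel φ
      (CurveCohLib.isZero_of_subsingleton_stalks fun x => not_not.1 fun hx =>
        Set.notMem_empty x (h ▸ (show x ∈ CohB1.support (cokernel φ) from hx)))
    haveI : IsIso φ := isIso_of_mono_of_epi φ
    have := CurveRR.deg_congr k (asIso φ) 1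
    rw [hdeg, CurveDeg.deg_structureModule] at this
    omega
  have hn : ¬ Function.Surjective ((DerSch.stalkFunctor X p).map φ) := fun hs => by
    refine hpS (subsingleton_of_forall_eq 0 fun z => ?_)
    let F := DerSch.stalkFunctor X p
    obtain ⟨y, rfl⟩ := (ModuleCat.epi_iff_surjective (F.map (cokernel.π φ))).1 inferInstance z
    obtain ⟨w, rfl⟩ := hs y
    rw [← ConcreteCategory.comp_apply, ← F.map_comp, cokernel.condition, F.map_zero]
    rfl
  have h0 := comp_toSubscheme_eq_zero k φ hp hn
  let u : N ⟶ ptMod p hp := kernel.lift (ClSub.toSubscheme (ptIdeal p hp)) φ h0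
  have hu : u ≠ 0 := fun h => hφ (by
    rw [← kernel.lift_ι (ClSub.toSubscheme (ptIdeal p hp)) φ h0]
    show u ≫ _ = 0
    rw [h, zero_comp])
  have hI := isInvertible_pt k hdim hp
  obtain ⟨hle, hiso⟩ := CurveDeg.deg_le_and_isIso k hdim.le hN hI u hu
  have hdp : Curv2.deg k X (ptMod p hp) 1 = -(Module.finrank k (X.residueField p) : ℤ) :=
    CurveEmbed.deg_point k hp
  have hpos : 0 < Module.finrank k (X.residueField p) := by
    rw [pos_iff_ne_zero]
    intro hz
    haveI : Mono (ClSub.idealModι (ptIdeal p hp)) := (shortExact_pt p hp).mono_f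
    have hne : ClSub.idealModι (ptIdeal p hp) ≠ 0 := fun h => hφ (by
      rw [← kernel.lift_ι (ClSub.toSubscheme (ptIdeal p hp)) φ h0]
      show u ≫ ClSub.idealModι (ptIdeal p hp) = 0
      rw [h, comp_zero])
    haveI := (CurveDeg.deg_le_and_isIso k hdim.le hI hO' _ hne).2 (by
      rw [hdp, hz, CurveDeg.deg_structureModule]; rfl)
    have hq : ClSub.toSubscheme (ptIdeal p hp) = 0 :=
      (cancel_epi (ClSub.idealModι (ptIdeal p hp))).1 ((kernel.condition _).trans comp_zero.symm)
    haveI : Epi (ClSub.toSubscheme (ptIdeal p hp)) := epi_toSubscheme _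
    have hz0 : IsZero (ClSub.quotMod (ptIdeal p hp)) := IsZero.of_epi_eq_zero _ hq
    exact not_subsingleton_stalk p hp
      (ModuleCat.subsingleton_of_isZero ((DerSch.stalkFunctor X p).map_isZero hz0))
  rw [hdeg, hdp] at hle
  have h1 : Module.finrank k (X.residueField p) = 1 := by omega
  haveI := hiso (by rw [hdeg, hdp, h1]; rfl)
  refine ⟨p, hp, ⟨(Curv2.resMap k X p).injective, fun y => ?_⟩, ⟨(asIso u).symm⟩⟩
  obtain ⟨c, hc⟩ := (finrank_eq_one_iff_of_nonzero' (1 : X.residueField p) one_ne_zero).1 h1 y
  exact ⟨c, by rw [← hc, Algebra.smul_def, mul_one]; rfl⟩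

end Groth.Agent.CurveNondeg
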