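import Groth.Agent.CurveEmbed.DegOne
import Groth.Agent.CurveEmbed.P1
import Groth.Agent.InvX.GenLocusPull
import Groth.Agent.PicClLib.Basic

/-!
Sections of an invertible module on an integral proper curve number at most its degree plus `h⁰(O)`;
linear forms injecting into sections.
-/

noncomputable section

set_option linter.style.haveILetI false
set_option linter.unusedSectionVars false
set_option backward.isDefEq.respectTransparency false
set_option backward.isDefEq.respectTransparency.types false

universe u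

open CategoryTheory CategoryTheory.Limits AlgebraicGeometry TopologicalSpace Opposite
open Groth.Agent.PnCoh.Finite (mapLin)

namespace Groth.Agent.CurveNondeg

open Groth.Agent Groth.Agent.InvX Groth.Agent.H23 Groth.Agent.CurveEmbed Groth.Agent.CurveBundle Groth.Agent.CurveSlope

/-- The linear forms in `r + 1` variables. -/
theorem finrank_forms (k : Type u) [Field k] (r : ℕ) :
    Module.finrank k ↥(MvPolynomial.homogeneousSubmodule (Fin (r + 1)) k 1) = r + 1 := by
  let T : Set (Fin (r + 1) →₀ ℕ) := {d | d.degree = 1}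
  let e : Fin (r + 1) ≃ ↥T := Equiv.ofBijective (fun i => ⟨Finsupp.single i 1, Finsupp.degree_single i 1⟩)
    ⟨fun i j h => Finsupp.single_left_injective one_ne_zero (congrArg Subtype.val h), fun d => by
      obtain ⟨i, hi⟩ := (Finsupp.range_single_one (σ := Fin (r + 1))).ge d.2
      exact ⟨i, Subtype.ext hi⟩⟩
  haveI : Fintype ↥T := Fintype.ofEquiv _ e
  rw [show MvPolynomial.homogeneousSubmodule (Fin (r + 1)) k 1 = MvPolynomial.restrictSupport k T from
    MvPolynomial.homogeneousSubmodule_eq_finsupp_supported _ _ 1,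
    Module.finrank_eq_card_basis (MvPolynomial.basisRestrictSupport (R := k) T),
    ← Fintype.card_congr e, Fintype.card_fin]

variable {X : Scheme.{u}} (k : Type u) [Field k] [X.Over (Spec (CommRingCat.of k))] [IsIntegral X]
  [IsProper (X ↘ Spec (CommRingCat.of k))]

include k in
/-- An invertible module with a section has at most `deg + h⁰(O)` sections. -/
theorem h0_le_deg_add (hdim : topologicalKrullDim X = 1) {L : X.Modules} (hL : PicF.IsInvertible L)
    {s : Γ(L, ⊤)} (hs : s ≠ 0) :
    (Module.finrank k (Coh.HH X L 0) : ℤ) ≤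
      Curv2.deg k X L 1 + Module.finrank k (Coh.HH X (Coh.structureModule X) 0) := by
  haveI := CurveCohLib.isNoetherian_of_proper (k := k) (X := X)
  haveI := CurveCohLib.finite_HH (k := k) (CurveDeg.isCoh_of_isInvertible hL) 0
  haveI := CurveCohLib.finite_HH (k := k) (QCoh.isCoh_structureModule' (X := X)) 0
  have hO := CurveDeg.isInvertible_structureModule (X := X)
  obtain ⟨S, hScl, hS⟩ := exists_zeros k hdim hL hs
  haveI := InvEnd.mono_of_ne_zero hO hL _ (ofSect_ne_zero hs)
  have hC := h0_cokernel k hdim hO hL (ofSect s) S hScl (surjOff_ofSect s S fun x hx => (hS x).1 hx)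
  haveI := CurveCohLib.finite_HH (k := k)
    (QCoh.isCoh_cokernel QCoh.isCoh_structureModule'.1 (CurveDeg.isCoh_of_isInvertible hL) (ofSect s)) 0
  rw [CurveDeg.deg_structureModule] at hC
  have hker := CurveCohLib.ker_mapLin_g k (shortExact_cokernel_of_mono (ofSect s)) 0
  have h1 := LinearMap.finrank_range_add_finrank_ker (mapLin k (cokernel.π (ofSect s)) 0)
  have h2 : Module.finrank k (LinearMap.range (mapLin k (cokernel.π (ofSect s)) 0)) ≤
      Module.finrank k (Coh.HH X (cokernel (ofSect s)) 0) := Submodule.finrank_le _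
  have h3 := LinearMap.finrank_range_le (mapLin k (ofSect s) 0)
  have h4 : Module.finrank k (LinearMap.ker (mapLin k (cokernel.π (ofSect s)) 0)) =
      Module.finrank k (LinearMap.range (mapLin k (ofSect s) 0)) := congrArg (fun N : Submodule k _ => Module.finrank k N) hker
  omega

include k in
/-- Over an algebraically closed field only the constants are global functions. -/
theorem h0_structure [IsAlgClosed k] :
    Module.finrank k (Coh.HH X (Coh.structureModule X) 0) = 1 := by
  let f := X ↘ Spec (CommRingCat.of k)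
  letI : Field Γ(X, ⊤) := (isField_of_universallyClosed k f).toField
  let g : k →+* Γ(X, ⊤) := f.appTop.hom.comp (Scheme.ΓSpecIso (CommRingCat.of k)).inv.hom
  letI : Algebra k Γ(X, ⊤) := g.toAlgebra
  haveI : Module.Finite k Γ(X, ⊤) := by
    have h := finite_appTop_of_universallyClosed k f
    exact RingHom.finite_algebraMap.1
      (h.comp (RingHom.Finite.of_surjective _ (Scheme.ΓSpecIso (CommRingCat.of k)).symm.commRingCatIsoToRingEquiv.surjective))
  have hsurj := IsAlgClosed.algebraMap_bijective_of_isIntegral (k := k) (K := Γ(X, ⊤))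
  let e := Sheaf.H.equiv₀ (Coh.toAb (Coh.structureModule X)) isTerminalTop
  refine finrank_eq_one (e.symm (show Γ(Coh.structureModule X, ⊤) from (1 : Γ(X, ⊤))))
    (fun h => one_ne_zero (α := Γ(X, ⊤)) ((e.apply_symm_apply _).symm.trans ((congrArg e h).trans (map_zero e))))
    fun t => ?_
  obtain ⟨c, hc⟩ := hsurj.2 (show Γ(X, ⊤) from e t)
  refine ⟨c, e.injective ?_⟩
  refine (CurveCohLib.h0Equiv_smul _ c _).trans (Eq.trans ?_ hc)
  rw [AddEquiv.apply_symm_apply]
  show X.presheaf.map (𝟙 (op ⊤)) (f.appTop _) * 1 = g c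
  rw [mul_one, CategoryTheory.Functor.map_id]
  rfl

variable {P : Scheme.{u}} [P.Over (Spec (CommRingCat.of k))]

/-- The inverse image of sections, linearly. -/
def pullH0 (i : X ⟶ P) (hi : i ≫ (P ↘ Spec (CommRingCat.of k)) = X ↘ Spec (CommRingCat.of k))
    (M : P.Modules) :
    Coh.HH P M 0 →ₗ[k] Coh.HH X ((Scheme.Modules.pullback i).obj M) 0 where
  toFun t := (Sheaf.H.equiv₀ (Coh.toAb ((Scheme.Modules.pullback i).obj M)) isTerminalTop).symm
    (show Γ((Scheme.Modules.pullback i).obj M, ⊤) from
      pullElt i (show Γ(M, ⊤) from Sheaf.H.equiv₀ (Coh.toAb M) isTerminalTop t))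
  map_add' a b := by
    refine (Sheaf.H.equiv₀ (Coh.toAb ((Scheme.Modules.pullback i).obj M)) isTerminalTop).injective ?_
    rw [map_add (Sheaf.H.equiv₀ (Coh.toAb ((Scheme.Modules.pullback i).obj M)) isTerminalTop),
      AddEquiv.apply_symm_apply, AddEquiv.apply_symm_apply, AddEquiv.apply_symm_apply, map_add]
    exact map_add _ _ _
  map_smul' c t := by
    refine (Sheaf.H.equiv₀ (Coh.toAb ((Scheme.Modules.pullback i).obj M)) isTerminalTop).injective ?_
    rw [AddEquiv.apply_symm_apply]
    refine Eq.trans ?_ (CurveCohLib.h0Equiv_smul ((Scheme.Modules.pullback i).obj M) c _).symm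
    rw [AddEquiv.apply_symm_apply]
    refine (congrArg (pullElt i) (CurveCohLib.h0Equiv_smul M c t)).trans ((pullElt_smul i _ _).trans ?_)
    refine congrArg (fun a : Γ(X, ⊤) => a • (show Γ((Scheme.Modules.pullback i).obj M, ⊤) from
      pullElt i (show Γ(M, ⊤) from Sheaf.H.equiv₀ (Coh.toAb M) isTerminalTop t))) ?_
    show i.app ⊤ (P.presheaf.map (𝟙 (op ⊤)) ((P ↘ Spec (CommRingCat.of k)).appTop _)) =
      X.presheaf.map (𝟙 (op ⊤)) ((X ↘ Spec (CommRingCat.of k)).appTop _)
    simp only [CategoryTheory.Functor.map_id]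
    rw [← hi, Scheme.Hom.comp_appTop]
    rfl

include k in
/-- Sections inject. -/
theorem finrank_le_of_pullElt (i : X ⟶ P)
    (hi : i ≫ (P ↘ Spec (CommRingCat.of k)) = X ↘ Spec (CommRingCat.of k)) {M : P.Modules}
    (hM : PicF.IsInvertible M) (hne : ∀ s : Γ(M, ⊤), s ≠ 0 → pullElt i s ≠ 0) :
    Module.finrank k (Coh.HH P M 0) ≤ Module.finrank k (Coh.HH X ((Scheme.Modules.pullback i).obj M) 0) := by
  haveI := CurveCohLib.isNoetherian_of_proper (k := k) (X := X)
  haveI := CurveCohLib.finite_HH (k := k)
    (CurveDeg.isCoh_of_isInvertible (PicClLib.isInvertible_pullback i hM)) 0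
  refine LinearMap.finrank_le_finrank_of_injective (f := pullH0 k i hi M)
    ((injective_iff_map_eq_zero _).2 fun t ht => ?_)
  by_contra ht0
  refine hne (Sheaf.H.equiv₀ (Coh.toAb M) isTerminalTop t)
    (fun h => ht0 ((Sheaf.H.equiv₀ (Coh.toAb M) isTerminalTop).injective (h.trans (map_zero _).symm))) ?_
  exact (Sheaf.H.equiv₀ (Coh.toAb ((Scheme.Modules.pullback i).obj M)) isTerminalTop).symm.injective (ht.trans (map_zero _).symm)

end Groth.Agent.CurveNondeg
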